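import Mathlib.RingTheory.Ideal.MinimalPrime.Localization
import Mathlib.RingTheory.Ideal.MinimalPrime.Noetherian
import Mathlib.RingTheory.KrullDimension.Basic
import Mathlib.RingTheory.Localization.AtPrime.Basic
import Mathlib.RingTheory.Localization.Away.Basic
import Mathlib.RingTheory.LocalRing.ResidueField.Ideal
import Mathlib.RingTheory.Regular.RegularSequence

/-!
# One-dimensional Noetherian local rings and the localizations at their minimal primes
-/

namespace Groth.Agent.DimOneLoc

universe u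

variable (A : Type u) [CommRing A]

/-- The product of the localizations at the minimal primes. -/
abbrev L := ∀ p : {p : PrimeSpectrum A // p.asIdeal ∈ minimalPrimes A}, Localization.AtPrime p.1.asIdeal

instance [IsNoetherianRing A] : Finite {p : PrimeSpectrum A // p.asIdeal ∈ minimalPrimes A} :=
  have := (minimalPrimes.finite_of_isNoetherianRing A).to_subtype
  Finite.of_injective (fun p => (⟨p.1.asIdeal, p.2⟩ : {q : Ideal A // q ∈ minimalPrimes A}))
    fun p q h => Subtype.ext (PrimeSpectrum.ext (congrArg Subtype.val h))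

variable {A}

/-- An element not in any minimal prime. -/
def Good (f : A) : Prop := ∀ p ∈ minimalPrimes A, f ∉ p

theorem good_of_mem_nonZeroDivisors {f : A} (hf : f ∈ nonZeroDivisors A) : Good f :=
  fun _ hp => Set.disjoint_left.1 (Ideal.disjoint_nonZeroDivisors_of_mem_minimalPrimes hp).symm hf

section Local

variable [IsLocalRing A] [Ring.KrullDimLE 1 A]

theorem mem_radical_of_not_le {I : Ideal A} (hI : ∀ p ∈ minimalPrimes A, ¬ I ≤ p) {x : A}
    (hx : x ∈ IsLocalRing.maximalIdeal A) : x ∈ I.radical := by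
  rw [Ideal.radical_eq_sInf]
  refine Submodule.mem_sInf.2 fun P hP => ?_
  obtain ⟨hIP, hP⟩ := hP
  rcases Ring.krullDimLE_one_iff.1 ‹_› P hP with h | h
  · exact absurd hIP (hI P h)
  · rwa [IsLocalRing.eq_maximalIdeal h]

theorem exists_dvd_pow_of_good {D : A} (hD : Good D) {x : A}
    (hx : x ∈ IsLocalRing.maximalIdeal A) : ∃ n, D ∣ x ^ n := by
  obtain ⟨n, hn⟩ := Ideal.mem_radical_iff.1 (mem_radical_of_not_le
    (I := Ideal.span {D}) (fun p hp h => hD p hp (h (Ideal.mem_span_singleton_self D))) hx)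
  exact ⟨n, Ideal.mem_span_singleton.1 hn⟩

/-- An element vanishing in all `A_p` is killed by powers of every element of the maximal ideal. -/
theorem exists_pow_mul_eq_zero {δ : A}
    (h : ∀ p : {p : PrimeSpectrum A // p.asIdeal ∈ minimalPrimes A},
      algebraMap A (Localization.AtPrime p.1.asIdeal) δ = 0)
    {x : A} (hx : x ∈ IsLocalRing.maximalIdeal A) : ∃ n, x ^ n * δ = 0 := by
  let I : Ideal A := LinearMap.ker (LinearMap.mulRight A δ)
  obtain ⟨n, hn⟩ := Ideal.mem_radical_iff.1 (mem_radical_of_not_le (I := I) (fun p hp hle => by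
    have : p.IsPrime := hp.1.1
    obtain ⟨⟨s, hs⟩, hs'⟩ := (IsLocalization.map_eq_zero_iff p.primeCompl _ δ).1
      (h ⟨⟨p, hp.1.1⟩, hp⟩)
    exact hs (hle (show s * δ = 0 from hs'))) hx)
  exact ⟨n, hn⟩

variable [IsNoetherianRing A]

/-- A uniform version. -/
theorem exists_maximalIdeal_pow_mul_eq_zero {δ : A}
    (h : ∀ p : {p : PrimeSpectrum A // p.asIdeal ∈ minimalPrimes A},
      algebraMap A (Localization.AtPrime p.1.asIdeal) δ = 0) :
    ∃ n, ∀ x ∈ IsLocalRing.maximalIdeal A ^ n, x * δ = 0 := by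
  obtain ⟨n, hn⟩ := Ideal.exists_pow_le_of_le_radical_of_fg
    (I := IsLocalRing.maximalIdeal A) (J := (LinearMap.ker (LinearMap.mulRight A δ) : Ideal A))
    (fun x hx => by
      obtain ⟨n, hn⟩ := exists_pow_mul_eq_zero h hx
      exact ⟨n, hn⟩)
    (IsNoetherian.noetherian _)
  exact ⟨n, fun x hx => hn hx⟩

theorem exists_good_mem : (∃ f ∈ IsLocalRing.maximalIdeal A, Good f) ↔
    ∀ p ∈ minimalPrimes A, p ≠ IsLocalRing.maximalIdeal A := by
  classical
  constructor
  · rintro ⟨f, hf, hg⟩ p hp rfl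
    exact hg _ hp hf
  · intro h
    by_contra hne
    have hfin := minimalPrimes.finite_of_isNoetherianRing A
    obtain ⟨q₀, hq₀⟩ : (minimalPrimes A).Nonempty := by
      obtain ⟨p, hp, -⟩ := Ideal.exists_minimalPrimes_le (bot_le : (⊥ : Ideal A) ≤ IsLocalRing.maximalIdeal A)
      exact ⟨p, hp⟩
    have hsub : (IsLocalRing.maximalIdeal A : Set A) ⊆
        ⋃ p ∈ (hfin.toFinset : Set (Ideal A)), (p : Set A) := by
      intro x hx
      by_contra hx'
      exact hne ⟨x, hx, fun p hp hxp => hx' (Set.mem_biUnion (hfin.mem_toFinset.2 hp) hxp)⟩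
    obtain ⟨p, hp, hle⟩ := (Ideal.subset_union_prime (f := id) q₀ q₀
      (fun p hp _ _ => (hfin.mem_toFinset.1 hp).1.1)).1 hsub
    exact h p (hfin.mem_toFinset.1 hp)
      ((IsLocalRing.maximalIdeal.isMaximal A).eq_of_le (hfin.mem_toFinset.1 hp).1.1.ne_top hle).symm

/-- **`A_f` is the product of the localizations at the minimal primes.** -/
theorem isLocalization_away {f : A} (hf : f ∈ IsLocalRing.maximalIdeal A) (hg : Good f) :
    IsLocalization.Away f (L A) := by
  classical
  have := Fintype.ofFinite {p : PrimeSpectrum A // p.asIdeal ∈ minimalPrimes A}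
  have hidem : ∀ p : {p : PrimeSpectrum A // p.asIdeal ∈ minimalPrimes A}, ∃ e : A, e ∉ p.1.asIdeal ∧
      ∀ q, q ≠ p → algebraMap A (Localization.AtPrime q.1.asIdeal) e = 0 := by
    intro p
    have : ∀ q : {p : PrimeSpectrum A // p.asIdeal ∈ minimalPrimes A}, ∃ e : A, e ∉ p.1.asIdeal ∧
        (q ≠ p → algebraMap A (Localization.AtPrime q.1.asIdeal) e = 0) := fun q => by
      by_cases hqp : q = p
      · exact ⟨1, (Ideal.ne_top_iff_one _).1 p.1.isPrime.ne_top, fun h => absurd hqp h⟩
      · obtain ⟨x, hxq, hxp⟩ := SetLike.not_le_iff_exists.1 fun hle : q.1.asIdeal ≤ p.1.asIdeal =>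
          hqp (Subtype.ext (PrimeSpectrum.ext (le_antisymm hle (p.2.2 q.2.1 hle))))
        have hnil : IsNilpotent (algebraMap A (Localization.AtPrime q.1.asIdeal) x) := by
          refine nilpotent_iff_mem_prime.2 fun J hJ => ?_
          obtain ⟨h1, h2⟩ := (IsLocalization.isPrime_iff_isPrime_disjoint q.1.asIdeal.primeCompl _ J).1 hJ
          exact q.2.2 ⟨h1, bot_le⟩ (fun y hy => by_contra fun hn => Set.disjoint_left.1 h2 hn hy) hxq
        obtain ⟨k, hk⟩ := hnil
        exact ⟨x ^ k, fun hmem => hxp (p.1.isPrime.mem_of_pow_mem k hmem),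
          fun _ => by rw [map_pow, hk]⟩
    choose e he he' using this
    refine ⟨∏ q, e q, fun hmem => ?_, fun q hq => ?_⟩
    · obtain ⟨q, -, hq⟩ := p.1.isPrime.prod_mem_iff.1 hmem
      exact he q hq
    · rw [map_prod]
      exact Finset.prod_eq_zero (Finset.mem_univ q) (he' q hq)
  choose e he he' using hidem
  refine { map_units := ?_, surj := ?_, exists_of_eq := ?_ }
  · rintro ⟨_, n, rfl⟩
    refine isUnit_iff_exists_inv.2 ⟨fun p =>
      ↑(IsLocalization.map_units (Localization.AtPrime p.1.asIdeal)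
        (⟨f ^ n, fun h => hg _ p.2 (p.1.isPrime.mem_of_pow_mem n h)⟩ : p.1.asIdeal.primeCompl)).unit⁻¹,
      funext fun p => ?_⟩
    exact IsUnit.mul_val_inv (IsLocalization.map_units (Localization.AtPrime p.1.asIdeal)
        (⟨f ^ n, fun h => hg _ p.2 (p.1.isPrime.mem_of_pow_mem n h)⟩ : p.1.asIdeal.primeCompl))
  · intro z
    choose as hz using fun p => IsLocalization.surj p.1.asIdeal.primeCompl (z p)
    have hsum : ∀ (g : {p : PrimeSpectrum A // p.asIdeal ∈ minimalPrimes A} → A) p,
        algebraMap A (Localization.AtPrime p.1.asIdeal) (∑ q, g q * e q) =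
          algebraMap A _ (g p) * algebraMap A _ (e p) := fun g p => by
      rw [map_sum, Finset.sum_eq_single p, map_mul]
      · intro q _ hq
        rw [map_mul, he' q p (Ne.symm hq), mul_zero]
      · intro h; exact absurd (Finset.mem_univ p) h
    set D := ∑ q, ((as q).2 : A) * e q with hDdef
    have hD : Good D := fun q hq hmem => by
      let p : {p : PrimeSpectrum A // p.asIdeal ∈ minimalPrimes A} := ⟨⟨q, hq.1.1⟩, hq⟩
      have : p.1.asIdeal.IsPrime := p.1.isPrime
      have hu : IsUnit (algebraMap A (Localization.AtPrime p.1.asIdeal) D) := by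
        rw [hDdef, hsum]
        exact (IsLocalization.map_units _ (as p).2).mul
          (IsLocalization.map_units _ (⟨e p, he p⟩ : p.1.asIdeal.primeCompl))
      exact (IsLocalization.AtPrime.isUnit_to_map_iff _ p.1.asIdeal D).1 hu hmem
    obtain ⟨n, w, hw⟩ := exists_dvd_pow_of_good hD hf
    refine ⟨(w * ∑ q, (as q).1 * e q, ⟨f ^ n, n, rfl⟩), funext fun p => ?_⟩
    show z p * algebraMap A (Localization.AtPrime p.1.asIdeal) (f ^ n) =
      algebraMap A (Localization.AtPrime p.1.asIdeal) (w * ∑ q, (as q).1 * e q)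
    rw [hw, map_mul, map_mul, hsum, hsum, ← hz p]
    ring
  · intro x y hxy
    obtain ⟨n, hn⟩ := exists_pow_mul_eq_zero (δ := x - y) (fun p => by
      rw [map_sub, sub_eq_zero]
      exact congrFun hxy p) hf
    exact ⟨⟨f ^ n, n, rfl⟩, sub_eq_zero.1 (by rw [← mul_sub]; exact hn)⟩

end Local

end Groth.Agent.DimOneLoc
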